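import Cfsg.Agent.Screen.CosetEnum.Core

/-!
# Cosets of the certificate
-/

set_option autoImplicit false
set_option maxRecDepth 20000

namespace Cfsg.Agent.Screen.CosetEnum.Fi22Ord.F22X

open Cfsg.Agent.Screen.CosetEnum

def cosetTree0 : Tr :=
  (.leaf 0x0)

/-- Packed table. -/
def cosetTree : Tr := cosetTree0

end Cfsg.Agent.Screen.CosetEnum.Fi22Ord.F22X
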