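import Cfsg.Agent.Screen.CosetEnum.Core

/-!
# Rows of the certificate
-/

set_option autoImplicit false
set_option maxRecDepth 20000

namespace Cfsg.Agent.Screen.CosetEnum.Fi22Ord.F22X

open Cfsg.Agent.Screen.CosetEnum

def rowTree0 : Tr :=
  (.leaf 0x36a0000000369000000036800000003670000000366000000036500000003640000000363000000036200000)

/-- Packed table. -/
def rowTree : Tr := rowTree0

end Cfsg.Agent.Screen.CosetEnum.Fi22Ord.F22X
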